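import Groth.Agent.S15749
import Mathlib.AlgebraicGeometry.Limits
import Mathlib.AlgebraicGeometry.Morphisms.Finite
import Mathlib.FieldTheory.IsSepClosed
import Mathlib.RingTheory.Henselian
import Mathlib.RingTheory.Polynomial.Cyclotomic.Roots

/-!
# Finite covers of Laurent series split by taking a root of the variable
-/

set_option autoImplicit false
set_option linter.all false
set_option backward.isDefEq.respectTransparency false
set_option maxHeartbeats 1000000

universe u

open CategoryTheory CategoryTheory.Limits AlgebraicGeometry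

noncomputable section

namespace LaurSplitLib

section Series

variable {R S : Type u} [CommRing R] [CommRing S]

/-- The coefficientwise map of Laurent series. -/
def cmap (f : R →+* S) : LaurentSeries R →+* LaurentSeries S where
  toFun x := HahnSeries.map x f
  map_one' := by ext n; rcases eq_or_ne n 0 with rfl | h <;> simp [*]
  map_mul' x y := HahnSeries.map_mul f.toNonUnitalRingHom
  map_zero' := by ext; simp
  map_add' x y := by ext; simp

@[simp] theorem coeff_cmap (f : R →+* S) (x : LaurentSeries R) (n : ℤ) : (cmap f x).coeff n = f (x.coeff n) := rfl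

theorem eq_cmap (f : R →+* S) (ρ : LaurentSeries R →+* LaurentSeries S)
    (hρ : ρ.comp (HahnSeries.ofPowerSeries ℤ R) = (HahnSeries.ofPowerSeries ℤ S).comp (PowerSeries.map f)) :
    ρ = cmap f := by
  refine IsLocalization.ringHom_ext (Submonoid.powers (PowerSeries.X : PowerSeries R)) (RingHom.ext fun p => ?_)
  show ρ (HahnSeries.ofPowerSeries ℤ R p) = cmap f (HahnSeries.ofPowerSeries ℤ R p)
  rw [← RingHom.comp_apply, hρ]
  ext n
  rw [RingHom.comp_apply, coeff_cmap]
  obtain ⟨m, rfl⟩ | hn := em (n ∈ Set.range fun m : ℕ => (m : ℤ))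
  · rw [HahnSeries.ofPowerSeries_apply_coeff, HahnSeries.ofPowerSeries_apply_coeff, PowerSeries.coeff_map]
  · rw [HahnSeries.ofPowerSeries_apply, HahnSeries.ofPowerSeries_apply, HahnSeries.embDomain_of_notMem_range,
      HahnSeries.embDomain_of_notMem_range, map_zero]
    · exact hn
    · exact hn

/-- The twist of Laurent series by a unit. -/
def twist (z : Rˣ) : LaurentSeries R →+* LaurentSeries R where
  toFun x :=
    { coeff := fun n => ((z ^ n : Rˣ) : R) * x.coeff n
      isPWO_support' := x.isPWO_support.mono fun n h e => h (by simp [e]) }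
  map_one' := by ext n; rcases eq_or_ne n 0 with rfl | h <;> simp [*]
  map_zero' := by ext; simp
  map_add' x y := by ext; simp [mul_add]
  map_mul' x y := by
    ext n
    have hs : ∀ w : LaurentSeries R, ∀ h,
        (HahnSeries.support ({ coeff := fun n => ((z ^ n : Rˣ) : R) * w.coeff n, isPWO_support' := h } : LaurentSeries R))
          = w.support := fun w h => by
      ext m; simp [HahnSeries.mem_support]
    show ((z ^ n : Rˣ) : R) * (x * y).coeff n = _
    rw [HahnSeries.coeff_mul, HahnSeries.coeff_mul, Finset.mul_sum]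
    refine Finset.sum_congr ?_ fun ij hij => ?_
    · ext ij; simp [Finset.mem_addAntidiagonal, hs]
    · have h : ij.1 + ij.2 = n := by simp [Finset.mem_addAntidiagonal] at hij; exact hij.2.2
      show _ = ((z ^ ij.1 : Rˣ) : R) * x.coeff ij.1 * (((z ^ ij.2 : Rˣ) : R) * y.coeff ij.2)
      rw [← h, zpow_add, Units.val_mul]; ring

@[simp] theorem coeff_twist (z : Rˣ) (x : LaurentSeries R) (n : ℤ) :
    (twist z x).coeff n = ((z ^ n : Rˣ) : R) * x.coeff n := rfl

theorem cmap_twist (f : R →+* S) (z : Rˣ) :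
    (cmap f).comp (twist z) = (twist (Units.map f.toMonoidHom z)).comp (cmap f) := by
  refine RingHom.ext fun x => HahnSeries.ext (funext fun n => ?_)
  simp [← map_zpow]

variable (d : ℕ) (hinj : Function.Injective (AddMonoidHom.mulLeft (d : ℤ)))
  (hmono : ∀ g g' : ℤ, AddMonoidHom.mulLeft (d : ℤ) g ≤ AddMonoidHom.mulLeft (d : ℤ) g' ↔ g ≤ g')

local notation "emb" => HahnSeries.embDomainRingHom (AddMonoidHom.mulLeft (d : ℤ)) hinj hmono

theorem emb_coeff_mul (x : LaurentSeries R) (m : ℤ) :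
    ((emb : LaurentSeries R →+* LaurentSeries R) x).coeff ((d : ℤ) * m) = x.coeff m :=
  HahnSeries.embDomain_coeff

theorem emb_coeff_of_not_dvd (x : LaurentSeries R) {n : ℤ} (h : ¬ (d : ℤ) ∣ n) :
    ((emb : LaurentSeries R →+* LaurentSeries R) x).coeff n = 0 :=
  HahnSeries.embDomain_of_notMem_range (fun ⟨m, hm⟩ => h ⟨m, hm.symm⟩)

theorem emb_injective : Function.Injective (emb : LaurentSeries R →+* LaurentSeries R) := fun x y h =>
  HahnSeries.ext (funext fun m => by rw [← emb_coeff_mul d hinj hmono, h, emb_coeff_mul])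

theorem cmap_emb (f : R →+* S) :
    (cmap f).comp (emb : LaurentSeries R →+* LaurentSeries R) =
      (emb : LaurentSeries S →+* LaurentSeries S).comp (cmap f) := by
  refine RingHom.ext fun x => HahnSeries.ext (funext fun n => ?_)
  by_cases h : (d : ℤ) ∣ n
  · obtain ⟨m, rfl⟩ := h
    rw [RingHom.comp_apply, RingHom.comp_apply, coeff_cmap, emb_coeff_mul, emb_coeff_mul, coeff_cmap]
  · rw [RingHom.comp_apply, RingHom.comp_apply, coeff_cmap, emb_coeff_of_not_dvd d hinj hmono _ h,
      emb_coeff_of_not_dvd d hinj hmono _ h, map_zero]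

theorem twist_emb (z : Rˣ) (hz : z ^ d = 1) :
    (twist z).comp (emb : LaurentSeries R →+* LaurentSeries R) = emb := by
  refine RingHom.ext fun x => HahnSeries.ext (funext fun n => ?_)
  by_cases h : (d : ℤ) ∣ n
  · obtain ⟨m, rfl⟩ := h
    rw [RingHom.comp_apply, coeff_twist, zpow_mul, zpow_natCast, hz, one_zpow, Units.val_one, one_mul]
  · rw [RingHom.comp_apply, coeff_twist, emb_coeff_of_not_dvd d hinj hmono _ h, mul_zero]

theorem exists_emb_eq (hd : 0 < d) (z : Rˣ) (hz : ∀ n : ℤ, ¬ (d : ℤ) ∣ n → IsUnit (((z ^ n : Rˣ) : R) - 1))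
    (x : LaurentSeries R) (hx : twist z x = x) :
    ∃ y, (emb : LaurentSeries R →+* LaurentSeries R) y = x := by
  refine ⟨{ coeff := fun m => x.coeff ((d : ℤ) * m), isPWO_support' := ?_ }, HahnSeries.ext (funext fun n => ?_)⟩
  · rw [Set.isPWO_iff_isWF]
    by_cases hne : x.support.Nonempty
    · refine BddBelow.isWF ⟨min (x.isPWO_support.isWF.min hne) 0, fun m hm => ?_⟩
      have h1 := x.isPWO_support.isWF.min_le hne (show (d : ℤ) * m ∈ x.support from hm)
      rcases le_or_gt 0 m with h | h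
      · exact le_trans (min_le_right _ _) h
      · exact le_trans (min_le_left _ _) (h1.trans (by nlinarith))
    · rw [Set.not_nonempty_iff_eq_empty] at hne
      rw [show Function.support (fun m => x.coeff ((d : ℤ) * m)) = ∅ from Set.eq_empty_of_forall_notMem
        fun m hm => (Set.eq_empty_iff_forall_notMem.1 hne ((d : ℤ) * m)) hm]
      exact Set.isWF_empty
  · by_cases h : (d : ℤ) ∣ n
    · obtain ⟨m, rfl⟩ := h
      rw [emb_coeff_mul]
    · rw [emb_coeff_of_not_dvd d hinj hmono _ h]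
      have h1 := congrArg (fun w => HahnSeries.coeff w n) hx
      simp only [coeff_twist] at h1
      exact ((hz n h).mul_right_eq_zero.1 (by rw [sub_mul, h1, one_mul, sub_self])).symm

theorem exists_root_of_unity (d : ℕ) (hd : 0 < d) (hdu : IsUnit (d : R)) [HenselianLocalRing R]
    [IsSepClosed (IsLocalRing.ResidueField R)] :
    ∃ z : Rˣ, z ^ d = 1 ∧ ∀ n : ℤ, ¬ (d : ℤ) ∣ n → IsUnit (((z ^ n : Rˣ) : R) - 1) := by
  haveI : NeZero (d : IsLocalRing.ResidueField R) :=
    ⟨by rw [← map_natCast (IsLocalRing.residue R)]; exact (hdu.map _).ne_zero⟩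
  obtain ⟨a, ha⟩ := IsSepClosed.exists_root (Polynomial.cyclotomic d (IsLocalRing.ResidueField R))
    (Polynomial.degree_cyclotomic_pos d _ hd).ne'
    ((Polynomial.separable_X_pow_sub_C (1 : IsLocalRing.ResidueField R) (NeZero.ne _) one_ne_zero).of_dvd
      (by rw [map_one]; exact Polynomial.cyclotomic.dvd_X_pow_sub_one d _))
  have hprim := (Polynomial.isRoot_cyclotomic_iff).1 ha
  obtain ⟨a₀, rfl⟩ := Ideal.Quotient.mk_surjective a
  obtain ⟨b, hb, hba⟩ := HenselianLocalRing.is_henselian (Polynomial.X ^ d - Polynomial.C (1 : R))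
    (Polynomial.monic_X_pow_sub_C _ hd.ne') a₀
    (by
      rw [← IsLocalRing.residue_eq_zero_iff]
      rw [Polynomial.eval_sub, Polynomial.eval_pow, Polynomial.eval_X, Polynomial.eval_C, map_sub, map_pow, map_one]
      exact sub_eq_zero.2 hprim.pow_eq_one)
    (by
      rw [Polynomial.derivative_sub, Polynomial.derivative_C, sub_zero, Polynomial.derivative_X_pow,
        Polynomial.eval_mul, Polynomial.eval_C, Polynomial.eval_pow, Polynomial.eval_X]
      refine hdu.mul (IsUnit.pow _ ?_)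
      exact (IsLocalRing.residue_ne_zero_iff_isUnit a₀).1 (hprim.ne_zero hd.ne'))
  have hb' : b ^ d = 1 := by simpa [sub_eq_zero] using hb
  obtain ⟨z, rfl⟩ := IsUnit.of_pow_eq_one hb' hd.ne'
  have hz : IsLocalRing.residue R (z : R) = IsLocalRing.residue R a₀ := by
    rw [← sub_eq_zero, ← map_sub, IsLocalRing.residue_eq_zero_iff]; exact hba
  refine ⟨z, Units.ext (by simpa using hb'), fun n hn => ?_⟩
  rw [← IsLocalRing.residue_ne_zero_iff_isUnit, map_sub, map_one, sub_ne_zero]
  intro h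
  refine hn ((hprim.zpow_eq_one_iff_dvd n).1 ?_)
  have : IsLocalRing.residue R ((z ^ n : Rˣ) : R) = (IsLocalRing.residue R (z : R)) ^ n := by
    rw [show IsLocalRing.residue R ((z ^ n : Rˣ) : R) =
      ((Units.map (IsLocalRing.residue R).toMonoidHom (z ^ n) : _ˣ) : IsLocalRing.ResidueField R) from rfl,
      map_zpow, Units.val_zpow_eq_zpow_val]
    rfl
  rw [← h, this, hz]
  rfl

theorem connectedSpace_spec [IsLocalRing R] : ConnectedSpace (PrimeSpectrum (LaurentSeries R)) := by
  haveI : Nontrivial (LaurentSeries R) := inferInstance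
  have : PreconnectedSpace (PrimeSpectrum (LaurentSeries R)) := by
    rw [preconnectedSpace_iff_clopen]
    intro s hs
    obtain ⟨e, he, rfl⟩ := PrimeSpectrum.isClopen_iff.mp hs
    obtain ⟨r, ⟨hr, rfl⟩, -⟩ := Groth.Agent.S15749.result R e he
    have h01 : r = 0 ∨ r = 1 := by
      rcases IsLocalRing.isUnit_or_isUnit_one_sub_self r with h | h
      · exact Or.inr (h.mul_left_cancel (hr.eq.trans (mul_one r).symm))
      · exact Or.inl (h.mul_left_eq_zero.1 (by rw [mul_sub, mul_one, hr.eq, sub_self]))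
    rcases h01 with rfl | rfl
    · left; rw [map_zero, PrimeSpectrum.basicOpen_zero]; rfl
    · right; rw [map_one, PrimeSpectrum.basicOpen_one]; rfl
  exact ⟨inferInstance⟩

end Series

section Sigma

theorem exists_factor {n : ℕ} {Y T : Scheme.{u}} [ConnectedSpace T] (f : T ⟶ ∐ fun _ : Fin n => Y) :
    ∃ (j : Fin n) (g : T ⟶ Y), g ≫ Sigma.ι (fun _ : Fin n => Y) j = f := by
  classical
  obtain ⟨t⟩ := (inferInstance : Nonempty T)
  obtain ⟨j, y, hy⟩ := (sigmaOpenCover (fun _ : Fin n => Y)).exists_eq (f.base t)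
  have hopen : ∀ i, IsOpen (f.base ⁻¹' (Set.range (Sigma.ι (fun _ : Fin n => Y) i).base)) := fun i =>
    (Sigma.ι (fun _ : Fin n => Y) i).opensRange.isOpen.preimage f.continuous
  have hcl : IsClopen (f.base ⁻¹' (Set.range (Sigma.ι (fun _ : Fin n => Y) j).base)) := by
    refine ⟨⟨?_⟩, hopen j⟩
    convert isOpen_iUnion (fun i : {i // i ≠ j} => hopen i.1) using 1
    ext x
    simp only [Set.mem_compl_iff, Set.mem_preimage, Set.mem_range, Set.mem_iUnion]
    constructor
    · intro hx
      obtain ⟨i, z, hz⟩ := (sigmaOpenCover (fun _ : Fin n => Y)).exists_eq (f.base x)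
      exact ⟨⟨i, fun h => hx (by subst h; exact ⟨z, hz⟩)⟩, z, hz⟩
    · rintro ⟨⟨i, hi⟩, z, hz⟩ ⟨w, hw⟩
      exact hi (congrArg Sigma.fst ((sigmaι_eq_iff (fun _ : Fin n => Y) i j z w).1 (hz.trans hw.symm)))
  have huniv := hcl.eq_univ ⟨t, y, hy⟩
  refine ⟨j, IsOpenImmersion.lift (Sigma.ι (fun _ : Fin n => Y) j) f ?_, IsOpenImmersion.lift_fac _ _ _⟩
  rintro _ ⟨x, rfl⟩
  exact (huniv.symm ▸ Set.mem_univ x : x ∈ f.base ⁻¹' _)

theorem factor_unique {n : ℕ} {Y T : Scheme.{u}} [Nonempty T] {i j : Fin n} (g : T ⟶ Y) (g' : T ⟶ Y)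
    (h : g ≫ Sigma.ι (fun _ : Fin n => Y) i = g' ≫ Sigma.ι (fun _ : Fin n => Y) j) : i = j := by
  obtain ⟨t⟩ := (inferInstance : Nonempty T)
  exact congrArg Sigma.fst ((sigmaι_eq_iff (fun _ : Fin n => Y) i j (g.base t) (g'.base t)).1 (by rw [← Scheme.Hom.comp_apply, h]; rfl))

/-- Sections of a split cover are determined by their restriction to a connected subscheme. -/
theorem split_bijective {n : ℕ} {Y Z : Scheme.{u}} [ConnectedSpace Y] [ConnectedSpace Z] (r : Z ⟶ Y)
    (s' : Z ⟶ ∐ fun _ : Fin n => Y) (hs' : s' ≫ Sigma.desc (fun _ : Fin n => 𝟙 Y) = r) :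
    ∃! s : Y ⟶ ∐ fun _ : Fin n => Y, s ≫ Sigma.desc (fun _ : Fin n => 𝟙 Y) = 𝟙 Y ∧ r ≫ s = s' := by
  obtain ⟨j, g, hg⟩ := exists_factor s'
  have hgr : g = r := by
    rw [← hs', ← hg, Category.assoc, Sigma.ι_desc, Category.comp_id]
  subst hgr
  refine ⟨Sigma.ι (fun _ : Fin n => Y) j, ⟨Sigma.ι_desc _ _, hg⟩, fun s ⟨h1, h2⟩ => ?_⟩
  obtain ⟨i, g₂, hg₂⟩ := exists_factor s
  have hg₂' : g₂ = 𝟙 Y := by
    rw [← h1, ← hg₂, Category.assoc, Sigma.ι_desc, Category.comp_id]
  subst hg₂'
  rw [Category.id_comp] at hg₂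
  subst hg₂
  rw [factor_unique g g (hg.trans h2.symm)]

/-- Sections over a cover which splits a finite morphism are determined by restriction. -/
theorem lift_bijective {n : ℕ} {X B Y Z : Scheme.{u}} [ConnectedSpace Y] [ConnectedSpace Z] (p : X ⟶ B)
    (q : Y ⟶ B) (e : pullback p q ≅ ∐ fun _ : Fin n => Y)
    (he : e.hom ≫ Sigma.desc (fun _ : Fin n => 𝟙 Y) = pullback.snd p q) (r : Z ⟶ Y)
    (s' : Z ⟶ X) (hs' : s' ≫ p = r ≫ q) :
    ∃! s : Y ⟶ X, s ≫ p = q ∧ r ≫ s = s' := by
  obtain ⟨σ, ⟨h1, h2⟩, huniq⟩ := split_bijective r (pullback.lift s' r hs' ≫ e.hom)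
    (by rw [Category.assoc, he, pullback.lift_snd])
  have hsnd : (σ ≫ e.inv) ≫ pullback.snd p q = 𝟙 Y := by
    rw [← he, Category.assoc, Iso.inv_hom_id_assoc, h1]
  refine ⟨σ ≫ e.inv ≫ pullback.fst p q, ⟨?_, ?_⟩, fun s ⟨k1, k2⟩ => ?_⟩
  · simp only [Category.assoc] at hsnd ⊢
    rw [pullback.condition, ← Category.assoc, ← Category.assoc, Category.assoc σ, hsnd, Category.id_comp]
  · rw [← Category.assoc, h2, Category.assoc, Iso.hom_inv_id_assoc, pullback.lift_fst]
  · have hk : pullback.lift s (𝟙 Y) (k1.trans (Category.id_comp q).symm) ≫ e.hom = σ := huniq _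
      ⟨by rw [Category.assoc, he, pullback.lift_snd], by
        rw [← Category.assoc]; congr 1
        ext
        · rw [Category.assoc, pullback.lift_fst, pullback.lift_fst, k2]
        · rw [Category.assoc, pullback.lift_snd, pullback.lift_snd, Category.comp_id]⟩
    rw [← hk, Category.assoc, Iso.hom_inv_id_assoc, pullback.lift_fst]

end Sigma

/-- Sections of a cover split by a root of the variable are determined by the residue field. -/
theorem sections_bijective (R : Type u) [CommRing R] [HenselianLocalRing R]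
    [IsSepClosed (IsLocalRing.ResidueField R)] (d : ℕ) (hd : 0 < d) (hdu : IsUnit (d : R))
    (hinj : Function.Injective (AddMonoidHom.mulLeft (d : ℤ)))
    (hmono : ∀ g g' : ℤ, AddMonoidHom.mulLeft (d : ℤ) g ≤ AddMonoidHom.mulLeft (d : ℤ) g' ↔ g ≤ g')
    {X : Scheme.{u}} (p : X ⟶ Spec (CommRingCat.of (LaurentSeries R))) [IsAffine X]
    (n : ℕ) (e : pullback p (Spec.map (CommRingCat.ofHom
        (HahnSeries.embDomainRingHom (R := R) (AddMonoidHom.mulLeft (d : ℤ)) hinj hmono))) ≅
        (∐ fun _ : Fin n => Spec (CommRingCat.of (LaurentSeries R))))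
    (he : e.hom ≫ Sigma.desc (fun _ : Fin n => 𝟙 (Spec (CommRingCat.of (LaurentSeries R)))) =
        pullback.snd p (Spec.map (CommRingCat.ofHom
          (HahnSeries.embDomainRingHom (R := R) (AddMonoidHom.mulLeft (d : ℤ)) hinj hmono))))
    (s' : Spec (CommRingCat.of (LaurentSeries (IsLocalRing.ResidueField R))) ⟶ X)
    (hs' : s' ≫ p = Spec.map (CommRingCat.ofHom (cmap (IsLocalRing.residue R)))) :
    ∃! s : Spec (CommRingCat.of (LaurentSeries R)) ⟶ X,
      s ≫ p = 𝟙 _ ∧ Spec.map (CommRingCat.ofHom (cmap (IsLocalRing.residue R))) ≫ s = s' := by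
  let k := IsLocalRing.ResidueField R
  haveI : ConnectedSpace ↥(Spec (CommRingCat.of (LaurentSeries R))) := connectedSpace_spec (R := R)
  haveI : ConnectedSpace ↥(Spec (CommRingCat.of (LaurentSeries k))) := connectedSpace_spec (R := k)
  let ι := HahnSeries.embDomainRingHom (R := R) (AddMonoidHom.mulLeft (d : ℤ)) hinj hmono
  let ιk := HahnSeries.embDomainRingHom (R := k) (AddMonoidHom.mulLeft (d : ℤ)) hinj hmono
  let ρ := cmap (IsLocalRing.residue R)
  have hcomm : Spec.map (CommRingCat.ofHom ρ) ≫ Spec.map (CommRingCat.ofHom ι) =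
      Spec.map (CommRingCat.ofHom ιk) ≫ Spec.map (CommRingCat.ofHom ρ) := by
    rw [← Spec.map_comp, ← Spec.map_comp, ← CommRingCat.ofHom_comp, ← CommRingCat.ofHom_comp,
      cmap_emb d hinj hmono]
  have hcancel : ∀ {A B : Type u} [CommRing A] [CommRing B] (φ : A →+* B), Function.Injective φ →
      ∀ a b : Spec (CommRingCat.of A) ⟶ X,
        Spec.map (CommRingCat.ofHom φ) ≫ a = Spec.map (CommRingCat.ofHom φ) ≫ b → a = b := by
    intro A B _ _ φ hφ a b h
    rw [← cancel_mono X.isoSpec.hom] at h ⊢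
    obtain ⟨a', ha⟩ := Spec.map_surjective (a ≫ X.isoSpec.hom)
    obtain ⟨b', hb⟩ := Spec.map_surjective (b ≫ X.isoSpec.hom)
    rw [Category.assoc, Category.assoc, ← ha, ← hb, ← Spec.map_comp, ← Spec.map_comp] at h
    rw [← ha, ← hb]
    refine congrArg Spec.map (CommRingCat.hom_ext (RingHom.ext fun x => hφ ?_))
    exact RingHom.congr_fun (congrArg CommRingCat.Hom.hom (Spec.map_injective h)) x
  have key := fun u hu => lift_bijective p _ e he (Spec.map (CommRingCat.ofHom ρ)) u hu
  have hu : (Spec.map (CommRingCat.ofHom ιk) ≫ s') ≫ p =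
      Spec.map (CommRingCat.ofHom ρ) ≫ Spec.map (CommRingCat.ofHom ι) := by
    rw [Category.assoc, hs', hcomm]
  obtain ⟨t, ⟨ht1, ht2⟩, htu⟩ := key _ hu
  obtain ⟨z, hz1, hz2⟩ := exists_root_of_unity (R := R) d hd hdu
  have hinv : Spec.map (CommRingCat.ofHom (twist z)) ≫ t = t := by
    refine htu _ ⟨?_, ?_⟩
    · rw [Category.assoc, ht1, ← Spec.map_comp, ← CommRingCat.ofHom_comp, twist_emb d hinj hmono z hz1]
    · rw [← Category.assoc, ← Spec.map_comp, ← CommRingCat.ofHom_comp, cmap_twist, CommRingCat.ofHom_comp,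
        Spec.map_comp, Category.assoc, ht2, ← Category.assoc, ← Spec.map_comp, ← CommRingCat.ofHom_comp,
        twist_emb d hinj hmono _ (by rw [← map_pow, hz1, map_one])]
  obtain ⟨g, hg⟩ := Spec.map_surjective (t ≫ X.isoSpec.hom)
  have hfix : ∀ x, twist z (g.hom x) = g.hom x := fun x => by
    have h := congrArg (fun m => m ≫ X.isoSpec.hom) hinv
    simp only [Category.assoc, ← hg, ← Spec.map_comp] at h
    exact RingHom.congr_fun (congrArg CommRingCat.Hom.hom (Spec.map_injective h)) x
  choose h hh using fun x => exists_emb_eq d hinj hmono hd z hz2 _ (hfix x)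
  have hi := emb_injective (R := R) d hinj hmono
  let H : Γ(X, ⊤) →+* LaurentSeries R :=
    { toFun := h
      map_one' := hi (by rw [hh, map_one, map_one])
      map_zero' := hi (by rw [hh, map_zero, map_zero])
      map_mul' := fun a b => hi (by rw [hh, map_mul, map_mul, hh, hh])
      map_add' := fun a b => hi (by rw [hh, map_add, map_add, hh, hh]) }
  let s := Spec.map (CommRingCat.ofHom H) ≫ X.isoSpec.inv
  have hs : Spec.map (CommRingCat.ofHom ι) ≫ s = t := by
    rw [← cancel_mono X.isoSpec.hom]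
    simp only [s, Category.assoc, Iso.inv_hom_id, Category.comp_id, ← hg, ← Spec.map_comp]
    exact congrArg Spec.map (CommRingCat.hom_ext (RingHom.ext hh))
  refine ⟨s, ⟨?_, ?_⟩, fun s₂ ⟨k1, k2⟩ => hcancel ι hi _ _ ?_⟩
  · have h1 : Spec.map (CommRingCat.ofHom ι) ≫ (s ≫ p) = Spec.map (CommRingCat.ofHom ι) ≫ 𝟙 _ := by
      rw [← Category.assoc, hs, ht1, Category.comp_id]
    obtain ⟨w, hw⟩ := Spec.map_surjective (s ≫ p)
    rw [← hw, Category.comp_id, ← Spec.map_comp] at h1
    rw [← hw, ← Spec.map_id]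
    exact congrArg Spec.map (CommRingCat.hom_ext (RingHom.ext fun x => hi
      (RingHom.congr_fun (congrArg CommRingCat.Hom.hom (Spec.map_injective h1)) x)))
  · refine hcancel ιk (emb_injective (R := k) d hinj hmono) _ _ ?_
    rw [← Category.assoc, ← hcomm, Category.assoc, hs, ht2]
  · rw [hs]
    refine htu _ ⟨by rw [Category.assoc, k1, Category.comp_id], ?_⟩
    rw [← Category.assoc, hcomm, Category.assoc, k2]

end LaurSplitLib
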